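set_option autoImplicit false
namespace Cfsg.Agent.Lib.Helper6.TCD.G24C
noncomputable def NC (i : Nat) : Nat := Nat.land (Nat.shiftRight 0x50002500001c40003400014000300002350000c000000000f0000ed00003000000000480003a30000c000020000c00008c80003000004000300002310000c000010002f0000b840002c00014000280002750000a0002700004000234c000280000c0002c0000b500009000000001600000d000024000080002800026200009000020002f0000b9400020000100003000022400008000030000800006cc0002000004000200001b1000080001a0000600016540001c000040002800027400007000030000700001cc0001c000040001c001d1200007000000000700001c00001c000040001800007100006000050000500004d400014000000009c00097300005000030000600001d4000100005800018000794000040000200005000048800010000140000c0000b500003000040000300002d00000c000380001c001dd300003000010000300002c40000c000000004400003500002000010000500004d0000080000c000080000330000200002000030000288000080000c000b000087000002000020001100000d4000040000c0009400007400001000030000100000cc00004000140004400003200001000020001c00001c4000040001800050000e9500000000030001600000d0000000001000138000fd30000000003000120000ec800000000000001800007100000000050000700001c000000000000000000000000000 (Nat.mul 86 (Nat.land i 511))) 77371252455336267181195263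
end Cfsg.Agent.Lib.Helper6.TCD.G24C
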