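set_option autoImplicit false
namespace Cfsg.Agent.Lib.Helper6.TCD.G24C
noncomputable def NH (i : Nat) : Nat := Nat.land (Nat.shiftRight 0x14e00016000318000000005a800160000b800021000186000020003080008000058800068000b00002600013c0004a0003280003800052000008000af000220001640002200031000084000668000b8000cc0001a00019e000340002b4000740006c800048000d6000010001b00000000034c0001c000558000b8000a1000160001a80001200028c0000000055000098000c00001000017c0001c0002dc000380005e000000000c7000010001500001c000354000100005e800000000bb0000800019000004000298000240006d800020000c9000060001ae000020003440000400052800020000dc0000000017400004000348000000006d000000000dd00000 (Nat.mul 43 (Nat.land i 1023))) 8796093022207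
end Cfsg.Agent.Lib.Helper6.TCD.G24C
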