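set_option autoImplicit false
namespace Cfsg.Agent.Lib.Helper6.TCD.G24C
noncomputable def SC (i : Nat) : Nat := Nat.land (Nat.shiftRight 0x10000000400020008000440200000004000000000000004000000000000000000000000000000000380200000000000000100000000000000000000000000300200000000000b4030000000400000000000000000028020000000000000000000000000000010000000000020020000000000000000000000000000000000000400000000000000000000000000000000000000000000400000000000000400088020000001000000000000000000038020007d008000000000000004000000000000000000280200000004001dc020002000800000000000000000038020002700c00000010002700c000000000000000000300200000000000000000000000000000100000000000200200000004000000000000000000700200000000000380200000000000000100000000000680200000000000300200000000000b0030000000400088030000000000028020000000000000000000000000000000000000400000000000000400000000000000000000000000000000000000000000000000010000000000000000001400800000000000000000078030000000400000000001200800000000000000000000000000000000000010000000000000000000000000000000000000000000000000000000000010001f00c00000000000000000000000000000400000000000000400088020000000000000000000000000000040000000000000000000000400000000000000000000040000000400064030002000800084030000000000000040000000000000010001800c00000000000000000000040000000000000000000000000000010000000000000040000000400000000000000000070020000000000000040000000000000010000000000068020000000000000040000000000000000000000400000000000000000000040002300c0000000000000000000004000000040008c030000000400000000000000000050030000000000000040000000000000010000000000000000001400800000040002600c0003c03000000040004c03000120080000004000000000000000000000000000001000000000000004000000000000000000000000000000000000000000001000000040000004000000100000004000000000003802000000000000001000000000000004000000100003002000000000000000000000040000000000000100002802000000000000000000000000000001000000000002002000000000000000000000000000000000000040000000000000040000004000000100000004000000000000004000000000000001000000000000004000000100000004000000000000000000000040000000000000100000004000000000000000000000000000001000000000000004000000000000000000000000000000000000040000000000000000000000000000000000000000000000000001000000000000000000000000000000000000000000000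 (Nat.mul 30 (Nat.land i 1023))) 1073741823
end Cfsg.Agent.Lib.Helper6.TCD.G24C
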