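set_option autoImplicit false
namespace Cfsg.Agent.Lib.Helper6.TCD.G24C
noncomputable def WI (i : Nat) : Nat := Nat.land (Nat.shiftRight 0x830c4146208310318810c4046200300618028c0106006300218008c00062322f18178b8bc585e2a2f1417898bc485e222f1017878bc385e1a2f0c17858bc285e122f0817838bc185e0a2f0417818bc085e022f00170c8b8605c2e2e16170a8b8505c262e1217088b8405c1e2e0e17068b8305c162e0a17048b8205c0e2e0617028b8105c062e0217008b8005e062d0216808b40058062c0216008b0005a102b0715830ac1456082b0315810ac0456002a0815038a818540a2a0415018a80854022a0015008a000500226001300890004802220011008800040021e000f008700038021a000d0086000300216000b00850002802120009008400020020e0007008300018000a000400018000800020000 (Nat.mul 17 (Nat.land i 255))) 131071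
end Cfsg.Agent.Lib.Helper6.TCD.G24C
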