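set_option autoImplicit false
namespace Cfsg.Agent.Lib.Helper6.TCD.G24C
noncomputable def SH (i : Nat) : Nat := Nat.land (Nat.shiftRight 0x1360004e000264000980004e000140000960001100012a0001a0003740000000048800060000dd000000001ba00000000374000000006e80000000092000100001ba00000000234000300006e800000000dd000000001ba000000002380003c0006e800000000b60000c00011200018000374000000006e8000000008a0000e0001ba00000000374000000006e800000000850000c0001ba00000000218000340006e800000000dd000000001ba000000003740000000041800060000dd000000001ba00000000374000000006e800000000dd0000000010200016000374000000003d8000500007e0000b00013a0005e000374000000006e8000000007c000190001340005e000374000000003b800050000dd000000001ba000000001e00006000038800048000980002f0000e800016000374000000006e80000000072000170001400005e0001b4000240004f800050000dd000000001ba000000001b8000580006e800000000dd000000001ba000000001a4000240006e8000000006a000150000c600010000374000000006e800000000660000b0001ba00000000190000500006e8000000005d000080001ba00000000180000280006e8000000005e000130001ba000000002e4000300002c800040000c5000090001ba00000000168000480006e800000000dd000000001ba00000000374000000002b800040000dd000000000aa0000e000374000000006e800000000dd000000001ba00000000374000000006e80000000051000070001ba000000003740000000029000050000dd000000001ba000000002b80001c00026800038000dd0000000009c00012000374000000006e800000000dd000000001ba0000000012c0001c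0006e800000000dd000000001ba00000000374000000006e800000000dd000000001ba000000001240001c00068000038000dd000000001ba000000003740000000023800030000dd000000000860000a000110000180006e800000000dd000000001ba000000001f4000a00006e800000000dd000000000820000a000374000000006e800000000790002700007a000080002b0000180001f000030000ce000090001ba000000001cc000980006e8000000003b000040001440000a000374000000006e8000000006f000250001ba00000000374000000006e80000000039000040001ba000000001ac000900001a800018000dd000000001ba000000000d8000180006e80000000065000230001ba000000000c40000c0006e80000000032000050001ba0000000017c000880006e800000000dd0000000005e00006000374000000006e8000000005b0002100016800010000374000000006e800000000970002f00005a000060002cc0005000015800010000dd000000001ba00000000304000180006e800000000930002e0001ba0000000009c000080006e800000000dd000000000500000a00023c000b400065800048000a900002000046000040002fc00010000120000200008b0002c0001ba00000000374000000006e80000000021000020001280005e00021c000ac000480001700008c0002d00011000058000210000ac000410001500001f00002000036000020001fc000a00003a800130000670002300010000052000070000180003d00014000017000010000ec0004e00018400088000298000f000018000050000e00004c0001b00009400009800008000680002400009e0003a00005000010000310001180005c000220000b00004200003c000040002b00010000010000030000a80003e00014000078000260000e80004a0001c00001a000020001200006c00005800000000450001900007e0002e0000dc00050000230000d00001d0000b0000840003200002400000000200000c000033000130000520001e000064000280001e0000b80003a0001600000e000000000e000054000128000700001500009000068000280000c00004c000170000900000500000000058000220000440002000015000080000260000f0000440001c00008000034000018000000001e0000c0000340001600005800028000090000480000e000080000180000e0000040000000005000030000080000500000c000080000100000c000010000100000000001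 (Nat.mul 43 (Nat.land i 1023))) 8796093022207
end Cfsg.Agent.Lib.Helper6.TCD.G24C
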